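import Groth.Agent.Lib.ExchangeFP29.Evaluation
import Groth.Agent.Lib.TensorMod.Integral
import Groth.Agent.Lib.Curves.GlobalSections
import Groth.Agent.H2.Rigid.PushFlat
import Groth.Agent.H34.CohFlat0.Family
import Groth.Agent.Lib.Cube.SeesawGlobal

/-!
# The locus of trivial fibres of an invertible module, over an arbitrary base
-/

set_option autoImplicit false
set_option linter.style.haveILetI false
set_option backward.isDefEq.respectTransparency false
universe u

open CategoryTheory CategoryTheory.Limits AlgebraicGeometry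

namespace Groth.Agent.Lib.BoxPic27.FibreTriv

open Groth.Agent.Lib

noncomputable section

variable {P S : Scheme.{u}} (p : P ⟶ S) [IsProper p] [Flat p] [LocallyOfFinitePresentation p]
  [GeometricallyIntegral p] {D : P.Modules} (hD : PicF.IsInvertible D)

omit [IsProper p] [Flat p] [LocallyOfFinitePresentation p] [GeometricallyIntegral p] in
include hD in
theorem qcoh : D.IsQuasicoherent :=
  Modules.AffineSections.isQCoh_of_isFinLocFree
    (TensorMod.LocFree.of_rank (TensorMod.LocFree.of_isInvertible hD))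

omit [IsProper p] [Flat p] [LocallyOfFinitePresentation p] [GeometricallyIntegral p] in
include hD in
theorem isFP : CohB1.IsFP D :=
  TensorMod.FPConv.isFP_of_isFinLocFree (TensorMod.LocFree.of_rank (TensorMod.LocFree.of_isInvertible hD))

/-- A nonzero section. -/
def HasSec {X : Scheme.{u}} (L : X.Modules) : Prop := ∃ s : Coh.structureModule X ⟶ L, s ≠ 0

omit [Flat p] [LocallyOfFinitePresentation p] [GeometricallyIntegral p] in
include hD in
theorem hasSec_of_fiberRank (y : S) (h : CohIII.fiberRank p D 0 y ≠ 0) :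
    HasSec ((Scheme.Modules.pullback (p.fiberι y)).obj D) := by
  haveI := qcoh hD
  have hns : ¬ Subsingleton (CohIII.fiberH p D y 0) := fun hs =>
    h ((ExchangeFP29.Main.fiberRank_eq_zero_iff p D (isFP hD) y 0).2 hs)
  obtain ⟨z, hz⟩ : ∃ z : CohIII.fiberH p D y 0, z ≠ 0 := by
    by_contra hcon
    push Not at hcon
    exact hns ⟨fun a b => (hcon a).trans (hcon b).symm⟩
  let m : Γ((Scheme.Modules.pullback (p.fiberι y)).obj D, ⊤) :=
    Curves.GlobalSections.h0Equiv (CohIII.fiberMod p D y) z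
  refine ⟨Modules.Free.unitHom _ m, fun h0 => hz ?_⟩
  have hm : m = 0 := by
    rw [← Modules.Free.unitHom_app_one _ m, h0]
    rfl
  exact (Curves.GlobalSections.h0Equiv (CohIII.fiberMod p D y)).map_eq_zero_iff.1 hm

omit [Flat p] [LocallyOfFinitePresentation p] in
theorem finrank_global (y : S) : Module.finrank (S.residueField y) Γ(p.fiber y, ⊤) = 1 := by
  obtain ⟨hH, hint⟩ := Cube.SeesawCons.h0_of_geometricallyIntegral p
  haveI := hint y
  have hb := Cube.SeesawGlobal.bijective_appTop_of_surjective (K := S.residueField y)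
    (p.fiberToSpecResidueField y) (hH y)
  have h2 : Function.Bijective (algebraMap (S.residueField y) Γ(p.fiber y, ⊤)) :=
    hb.comp (ConcreteCategory.bijective_of_isIso (Scheme.ΓSpecIso (S.residueField y)).inv)
  exact ((LinearEquiv.ofBijective (Algebra.linearMap (S.residueField y) Γ(p.fiber y, ⊤)) h2).finrank_eq).symm.trans
    (Module.finrank_self _)

omit [Flat p] [LocallyOfFinitePresentation p] in
include hD in
/-- The fibre ranks at a point with trivial fibre. -/
theorem ranks_of_triv (y : S)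
    (ht : Nonempty ((Scheme.Modules.pullback (p.fiberι y)).obj D ≅ Coh.structureModule (p.fiber y))) :
    CohIII.fiberRank p D 0 y = 1 ∧
      CohIII.fiberRank p D 1 y = CohIII.fiberRank p (Coh.structureModule P) 1 y := by
  obtain ⟨φ⟩ := ht
  letI : (p.fiber y).Over (Spec (CommRingCat.of (S.residueField y))) := ⟨p.fiberToSpecResidueField y⟩
  refine ⟨?_, ?_⟩
  · exact ((Curves.LES.isoK (S.residueField y) φ 0).finrank_eq.trans
      (H34.CohFlat0.finrank_HH_zero (S.residueField y) (p.fiber y))).trans (finrank_global p y)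
  · exact (Curves.LES.isoK (S.residueField y) φ 1).finrank_eq.trans (H34.CohFlat0.fiberRank_structure p y 1).symm

omit [Flat p] [LocallyOfFinitePresentation p] in
include hD in
/-- The seesaw criterion on a fibre. -/
theorem triv_iff (y : S) :
    Nonempty ((Scheme.Modules.pullback (p.fiberι y)).obj D ≅ Coh.structureModule (p.fiber y)) ↔
      CohIII.fiberRank p D 0 y ≠ 0 ∧ CohIII.fiberRank p (TensorMod.Dual.dual D) 0 y ≠ 0 := by
  obtain ⟨-, hint⟩ := Cube.SeesawCons.h0_of_geometricallyIntegral p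
  haveI := hint y
  have hD' := TensorMod.Invertible.isInvertible_dual hD
  let ι₀ := p.fiberι y
  let e : CohB1.tensorMod ((Scheme.Modules.pullback ι₀).obj D) ((Scheme.Modules.pullback ι₀).obj (TensorMod.Dual.dual D)) ≅
      Coh.structureModule (p.fiber y) :=
    (TensorMod.Pullback.pullbackTensorIso ι₀ D (TensorMod.Dual.dual D)).symm ≪≫
      (Scheme.Modules.pullback ι₀).mapIso (TensorMod.Invertible.tensorDualIso hD) ≪≫
      PicLoc.pullbackStructureIso ι₀
  constructor
  · rintro ⟨φ⟩
    have ht' : Nonempty ((Scheme.Modules.pullback ι₀).obj (TensorMod.Dual.dual D) ≅ Coh.structureModule (p.fiber y)) :=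
      ⟨(TensorMod.Basic.leftUnit _).symm ≪≫ TensorMod.Basic.tensorIso φ.symm (Iso.refl _) ≪≫ e⟩
    exact ⟨by rw [(ranks_of_triv p hD y ⟨φ⟩).1]; exact one_ne_zero,
      by rw [(ranks_of_triv p hD' y ht').1]; exact one_ne_zero⟩
  · rintro ⟨h0, h0'⟩
    obtain ⟨s, hs⟩ := hasSec_of_fiberRank p hD y h0
    obtain ⟨s', hs'⟩ := hasSec_of_fiberRank p hD' y h0'
    have hDy := PicLoc.isInvertible_pullback ι₀ hD
    let t : (Scheme.Modules.pullback ι₀).obj D ⟶ Coh.structureModule (p.fiber y) :=
      (TensorMod.Basic.rightUnit _).inv ≫ TensorMod.Basic.tmap (𝟙 _) s' ≫ e.hom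
    have ht : t ≠ 0 := fun h => hs' (TensorMod.Integral.eq_zero_of_tmap_eq_zero hDy (by
      have h1 : TensorMod.Basic.tmap (𝟙 ((Scheme.Modules.pullback ι₀).obj D)) s' = 0 := by
        have h2 := congrArg (fun u => (TensorMod.Basic.rightUnit _).hom ≫ u ≫ e.inv) h
        simpa [t] using h2
      rw [← cancel_mono (TensorMod.Basic.comm _ _).hom, TensorMod.Basic.comm_natural, h1, comp_zero, zero_comp]))
    haveI : IsProper (p.fiberToSpecResidueField y) := inferInstanceAs (IsProper (pullback.snd p _))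
    exact TensorMod.Integral.iso_of_section_cosection
      (isField_of_universallyClosed (S.residueField y) (p.fiberToSpecResidueField y)) hDy hs ht

include hD in
/-- The trivial fibres form a closed set. -/
theorem isClosed_triv : IsClosed
    {y : S | Nonempty ((Scheme.Modules.pullback (p.fiberι y)).obj D ≅ Coh.structureModule (p.fiber y))} := by
  have hD' := TensorMod.Invertible.isInvertible_dual hD
  haveI := qcoh hD
  haveI := qcoh hD'
  have h1 := ExchangeFP29.Main.isOpen_fiberRank_eq_zero p D (isFP hD)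
    (Cube.FamCx.isFlatOver_of_isInvertible p hD) 0
  have h2 := ExchangeFP29.Main.isOpen_fiberRank_eq_zero p (TensorMod.Dual.dual D) (isFP hD')
    (Cube.FamCx.isFlatOver_of_isInvertible p hD') 0
  rw [← isOpen_compl_iff]
  convert h1.union h2 using 1
  ext y
  simp only [Set.mem_compl_iff, Set.mem_setOf_eq, Set.mem_union, triv_iff p hD y]
  tauto

include hD in
/-- A generator near a trivial fibre without `H¹`. -/
theorem exists_local_gen (y : S) (h1O : CohIII.fiberRank p (Coh.structureModule P) 1 y = 0)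
    (htriv : Nonempty ((Scheme.Modules.pullback (p.fiberι y)).obj D ≅ Coh.structureModule (p.fiber y))) :
    ∃ V : S.Opens, y ∈ V ∧ ∃ l : Γ(D, p ⁻¹ᵁ V), TensorMod.Gen.IsGen D (p ⁻¹ᵁ V) l := by
  haveI := qcoh hD
  have hF := isFP hD
  have hfl := Cube.FamCx.isFlatOver_of_isInvertible p hD
  haveI : HasInjectiveResolutions P.Modules := inferInstance
  obtain ⟨h0, h1⟩ := ranks_of_triv p hD y htriv
  rw [h1O] at h1
  obtain ⟨V₀, hV₀, hyV₀, hle⟩ := exists_isAffineOpen_mem_and_subset
    (U := ⟨_, ExchangeFP29.Main.isOpen_fiberRank_eq_zero p D hF hfl 1⟩) (x := y) h1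
  haveI : IsAffine (V₀ : Scheme.{u}) := hV₀
  obtain ⟨C, hC, he, -, hz⟩ := ExchangeFP29.Main.exists_of_vanish p D hF hfl V₀
  obtain ⟨e⟩ := he 0
  obtain ⟨W, hyW, ⟨i⟩⟩ := ExchangeFP29.Main.exists_free_nhd p D 0 hC e (hC.flat_Q_nonneg _ (by simp))
    (by simpa using (hz 1 fun z hz => hle hz).2.1) hyV₀
  rw [h0] at i
  obtain ⟨z⟩ := ExchangeFP29.Main.nonempty_zeroIso p D
  obtain ⟨t, ht⟩ := TensorMod.Gen.exists_gen_of_iso (L := (Scheme.Modules.pushforward p).obj D)
    ((Scheme.Modules.restrictFunctor W.ι).mapIso z.symm ≪≫ i ≪≫ TensorMod.LocFree.freeModOneIso _)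
  have hbc := ExchangeFP29.Main.isIso_bc0 p D hF hfl (S.fromSpecResidueField y) (p.fiberι y)
    (p.fiberToSpecResidueField y) (IsPullback.of_hasPullback p _) fun t => by
      rw [Scheme.fromSpecResidueField_apply]; exact h1
  obtain ⟨V', hle', hyV', hg⟩ := ExchangeFP29.Evaluation.exists_gen_nhd p hD y hyW (show Γ(D, p ⁻¹ᵁ W) from t)
    (ExchangeFP29.Evaluation.isGen_fibre p y hyW ht hbc htriv)
  exact ⟨V', hyV', _, hg⟩

omit [IsProper p] [Flat p] [LocallyOfFinitePresentation p] [GeometricallyIntegral p] in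
/-- Near a generator all fibres are trivial. -/
theorem triv_of_gen {V : S.Opens} {l : Γ(D, p ⁻¹ᵁ V)} (hl : TensorMod.Gen.IsGen D (p ⁻¹ᵁ V) l)
    {z : S} (hz : z ∈ V) :
    Nonempty ((Scheme.Modules.pullback (p.fiberι z)).obj D ≅ Coh.structureModule (p.fiber z)) := by
  obtain ⟨i⟩ := TensorMod.Gen.exists_iso_of_gen hl
  have hr : Set.range (p.fiberι z) ⊆ Set.range (p ⁻¹ᵁ V).ι := by
    rw [Scheme.Opens.range_ι]
    rintro _ ⟨w, rfl⟩
    show p (p.fiberι z w) ∈ V
    have : p (p.fiberι z w) ∈ Set.range (S.fromSpecResidueField z) := by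
      rw [← Scheme.Hom.comp_apply, p.fiber_fac, Scheme.Hom.comp_apply]
      exact ⟨_, rfl⟩
    rw [Scheme.range_fromSpecResidueField, Set.mem_singleton_iff] at this
    rw [this]
    exact hz
  exact ⟨(Scheme.Modules.pullbackCongr (IsOpenImmersion.lift_fac (p ⁻¹ᵁ V).ι _ hr).symm).app D ≪≫
    ((Scheme.Modules.pullbackComp (IsOpenImmersion.lift (p ⁻¹ᵁ V).ι _ hr) (p ⁻¹ᵁ V).ι).app D).symm ≪≫
    (Scheme.Modules.pullback _).mapIso (((Scheme.Modules.restrictFunctorIsoPullback (p ⁻¹ᵁ V).ι).app D).symm ≪≫ i) ≪≫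
    PicLoc.pullbackStructureIso _⟩

include hD in
/-- An invertible module trivial on one fibre of a family without `H¹(O)` over a connected base comes
from the base. -/
theorem exists_descent [ConnectedSpace S] [Surjective p]
    (h1O : ∀ y, CohIII.fiberRank p (Coh.structureModule P) 1 y = 0) (y₀ : S)
    (h₀ : Nonempty ((Scheme.Modules.pullback (p.fiberι y₀)).obj D ≅ Coh.structureModule (p.fiber y₀))) :
    ∃ L : S.Modules, PicF.IsInvertible L ∧ Nonempty ((Scheme.Modules.pullback p).obj L ≅ D) := by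
  let Z : Set S := {y | Nonempty ((Scheme.Modules.pullback (p.fiberι y)).obj D ≅ Coh.structureModule (p.fiber y))}
  have hopen : IsOpen Z := isOpen_iff_forall_mem_open.2 fun y hy => by
    obtain ⟨V, hyV, l, hl⟩ := exists_local_gen p hD y (h1O y) hy
    exact ⟨V, fun z hz => triv_of_gen p hl hz, V.isOpen, hyV⟩
  have hZ : Z = Set.univ := IsClopen.eq_univ ⟨isClosed_triv p hD, hopen⟩ ⟨y₀, h₀⟩
  have hall : ∀ y, y ∈ Z := fun y => by rw [hZ]; trivial
  exact Cube.SeesawGlobal.exists_of_local_gen p
    (H2.Rigid.PushFlat.push_of_flat_fp p (Cube.SeesawCons.h0_of_geometricallyIntegral p).1) D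
    fun y => exists_local_gen p hD y (h1O y) (hall y)

end

end Groth.Agent.Lib.BoxPic27.FibreTriv
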