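import Groth.Agent.Lib.BoxPic27.FibreTriv
import Groth.Agent.Lib.ExchangeFP29.FieldPoint

/-!
# Invertible modules on a product over a field with a factor without `H¹(O)`
-/

set_option autoImplicit false
set_option linter.style.haveILetI false
set_option backward.isDefEq.respectTransparency false
universe u

open CategoryTheory CategoryTheory.Limits AlgebraicGeometry

namespace Groth.Agent.Lib.BoxPic27.Product

open Groth.Agent.Lib

noncomputable section

variable {k : Type u} [Field k] {S T : Scheme.{u}} {s : S ⟶ Spec (CommRingCat.of k)}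
  {t : T ⟶ Spec (CommRingCat.of k)}

/-- A rational point is isomorphic to its residue point. -/
theorem fromSpecResidueField_retract {σ : Spec (CommRingCat.of k) ⟶ S} (hσ : σ ≫ s = 𝟙 _) :
    let y₀ := σ (IsLocalRing.closedPoint k)
    S.fromSpecResidueField y₀ ≫ s ≫ σ = S.fromSpecResidueField y₀ := by
  intro y₀
  obtain ⟨⟨y, φ⟩, he⟩ := (Scheme.SpecToEquivOfField k S).symm.surjective σ
  have hσ' : Spec.map φ ≫ S.fromSpecResidueField y = σ := he
  have hy : y = y₀ := by
    show y = σ (IsLocalRing.closedPoint k)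
    rw [← hσ', Scheme.Hom.comp_apply, Scheme.fromSpecResidueField_apply]
  clear_value y₀
  subst hy
  obtain ⟨ψ, hψ⟩ := Spec.map_surjective (S.fromSpecResidueField y ≫ s)
  have h1 : ψ ≫ φ = 𝟙 _ := Spec.map_injective (by
    rw [Spec.map_comp, hψ, Spec.map_id, ← Category.assoc, hσ', hσ])
  have hbij : Function.Bijective φ.hom := ⟨φ.hom.injective, fun a => ⟨ψ.hom a, congr($h1 a)⟩⟩
  haveI : IsIso φ := (ConcreteCategory.isIso_iff_bijective φ).2 hbij
  have h2 : φ ≫ ψ = 𝟙 _ := by
    rw [← cancel_mono φ, Category.assoc, h1, Category.comp_id, Category.id_comp]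
  rw [← Category.assoc, ← hψ, ← hσ', ← Category.assoc, ← Spec.map_comp, h2, Spec.map_id, Category.id_comp]

variable [IsProper t] [GeometricallyIntegral t]

/-- The exterior decomposition. -/
theorem exists_box (h1 : Subsingleton (Coh.HH T (Coh.structureModule T) 1)) [ConnectedSpace S]
    (σ : Spec (CommRingCat.of k) ⟶ S) (hσ : σ ≫ s = 𝟙 _)
    (N : (pullback s t).Modules) (hN : PicF.IsInvertible N) :
    ∃ (L : S.Modules) (M : T.Modules), PicF.IsInvertible L ∧ PicF.IsInvertible M ∧
      Nonempty (N ≅ CohB1.tensorMod ((Scheme.Modules.pullback (pullback.fst s t)).obj L)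
        ((Scheme.Modules.pullback (pullback.snd s t)).obj M)) := by
  let p := pullback.fst s t
  let q := pullback.snd s t
  haveI : IsProper p := inferInstanceAs (IsProper (pullback.fst s t))
  haveI : Flat p := inferInstanceAs (Flat (pullback.fst s t))
  haveI : LocallyOfFinitePresentation t := LocallyOfFinitePresentation.iff_locallyOfFiniteType.2 inferInstance
  haveI : LocallyOfFinitePresentation p := inferInstanceAs (LocallyOfFinitePresentation (pullback.fst s t))
  haveI : GeometricallyIntegral p := inferInstanceAs (GeometricallyIntegral (pullback.fst s t))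
  haveI : GeometricallyConnected t := Cube.OverField.geometricallyConnected_of_irreducible t
  haveI : Surjective p := inferInstanceAs (Surjective (pullback.fst s t))
  let σT : T ⟶ pullback s t := pullback.lift (t ≫ σ) (𝟙 T) (by rw [Category.assoc, hσ, Category.comp_id, Category.id_comp])
  have hσTq : σT ≫ q = 𝟙 T := pullback.lift_snd _ _ _
  have hσTp : σT ≫ p = t ≫ σ := pullback.lift_fst _ _ _
  let M := (Scheme.Modules.pullback σT).obj N
  have hM : PicF.IsInvertible M := PicLoc.isInvertible_pullback σT hN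
  let Q := (Scheme.Modules.pullback q).obj M
  have hQ : PicF.IsInvertible Q := PicLoc.isInvertible_pullback q hM
  let D := CohB1.tensorMod N (TensorMod.Dual.dual Q)
  have hD : PicF.IsInvertible D :=
    TensorMod.Invertible.isInvertible_tensorMod hN (TensorMod.Invertible.isInvertible_dual hQ)
  let qQ : (Scheme.Modules.pullback σT).obj Q ≅ M :=
    (Scheme.Modules.pullbackComp σT q).app M ≪≫ (Scheme.Modules.pullbackCongr hσTq).app M ≪≫
      (Scheme.Modules.pullbackId T).app M
  let eD : (Scheme.Modules.pullback σT).obj D ≅ Coh.structureModule T :=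
    TensorMod.Pullback.pullbackTensorIso σT N (TensorMod.Dual.dual Q) ≪≫
      TensorMod.Basic.tensorIso qQ.symm (Iso.refl _) ≪≫
      (TensorMod.Pullback.pullbackTensorIso σT Q (TensorMod.Dual.dual Q)).symm ≪≫
      (Scheme.Modules.pullback σT).mapIso (TensorMod.Invertible.tensorDualIso hQ) ≪≫
      PicLoc.pullbackStructureIso σT
  let y₀ : S := σ (IsLocalRing.closedPoint k)
  have hfac : (p.fiberι y₀ ≫ q) ≫ σT = p.fiberι y₀ := by
    refine pullback.hom_ext ?_ ?_
    · show ((p.fiberι y₀ ≫ q) ≫ σT) ≫ p = p.fiberι y₀ ≫ p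
      rw [Category.assoc, hσTp, Category.assoc, show q ≫ t ≫ σ = p ≫ s ≫ σ by
        rw [← Category.assoc, ← Category.assoc, pullback.condition], ← Category.assoc, p.fiber_fac,
        Category.assoc, fromSpecResidueField_retract hσ]
    · show ((p.fiberι y₀ ≫ q) ≫ σT) ≫ q = p.fiberι y₀ ≫ q
      rw [Category.assoc, hσTq, Category.comp_id]
  have h₀ : Nonempty ((Scheme.Modules.pullback (p.fiberι y₀)).obj D ≅ Coh.structureModule (p.fiber y₀)) :=
    ⟨(Scheme.Modules.pullbackCongr hfac.symm).app D ≪≫
      ((Scheme.Modules.pullbackComp (p.fiberι y₀ ≫ q) σT).app D).symm ≪≫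
      (Scheme.Modules.pullback _).mapIso eD ≪≫ PicLoc.pullbackStructureIso _⟩
  have h1O : ∀ y, CohIII.fiberRank p (Coh.structureModule (pullback s t)) 1 y = 0 := fun y => by
    haveI : (Coh.structureModule T).IsQuasicoherent :=
      FibreTriv.qcoh (PicLoc.isInvertible_structureModule T)
    have hF := FibreTriv.isFP (PicLoc.isInvertible_structureModule T)
    have hfl := Cube.FamCx.isFlatOver_of_isInvertible t (PicLoc.isInvertible_structureModule T)
    letI : T.Over (Spec (CommRingCat.of k)) := ⟨t⟩
    have hT : ∀ z, CohIII.fiberRank t (Coh.structureModule T) 1 z = 0 := fun z => by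
      have h := ExchangeFP29.FieldPoint.finrank_HH_eq t (Coh.structureModule T) hF hfl t (𝟙 _) (𝟙 T)
        (IsPullback.of_horiz_isIso ⟨by simp⟩) 1
      rw [show z = (𝟙 (Spec (CommRingCat.of k)) : _ ⟶ _) (IsLocalRing.closedPoint k) from Subsingleton.elim _ _, ← h]
      haveI := h1
      haveI : Subsingleton (Coh.HH T ((Scheme.Modules.pullback (𝟙 T)).obj (Coh.structureModule T)) 1) :=
        (Curves.LES.isoK k (PicLoc.pullbackStructureIso (𝟙 T)) 1).toEquiv.subsingleton
      exact Module.finrank_zero_of_subsingleton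
    have h2 := ExchangeFP29.FieldPoint.fiberRank_baseChange t (Coh.structureModule T) hF hfl s q p
      (IsPullback.of_hasPullback s t).flip 1 y
    rw [hT] at h2
    letI : (p.fiber y).Over (Spec (CommRingCat.of (S.residueField y))) := ⟨p.fiberToSpecResidueField y⟩
    rw [← h2]
    exact (Curves.LES.isoK (S.residueField y)
      ((Scheme.Modules.pullback (p.fiberι y)).mapIso (PicLoc.pullbackStructureIso q)) 1).finrank_eq.symm
  obtain ⟨L, hL, ⟨eL⟩⟩ := FibreTriv.exists_descent p hD h1O y₀ h₀
  exact ⟨L, M, hL, hM, ⟨(TensorMod.Basic.rightUnit N).symm ≪≫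
    TensorMod.Basic.tensorIso (Iso.refl N) ((TensorMod.Invertible.tensorDualIso hQ).symm ≪≫ TensorMod.Basic.comm _ _) ≪≫
    (TensorMod.Basic.assoc N (TensorMod.Dual.dual Q) Q).symm ≪≫
    TensorMod.Basic.tensorIso eL.symm (Iso.refl Q)⟩⟩

/-- Uniqueness of the exterior decomposition. -/
theorem unique_box (σ : Spec (CommRingCat.of k) ⟶ S) (hσ : σ ≫ s = 𝟙 _) (L L' : S.Modules) (M M' : T.Modules)
    (hL : PicF.IsInvertible L) (hL' : PicF.IsInvertible L') (hM : PicF.IsInvertible M) (hM' : PicF.IsInvertible M')
    (h : Nonempty (CohB1.tensorMod ((Scheme.Modules.pullback (pullback.fst s t)).obj L) ((Scheme.Modules.pullback (pullback.snd s t)).obj M) ≅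
      CohB1.tensorMod ((Scheme.Modules.pullback (pullback.fst s t)).obj L') ((Scheme.Modules.pullback (pullback.snd s t)).obj M'))) :
    Nonempty (L ≅ L') ∧ Nonempty (M ≅ M') := by
  obtain ⟨e⟩ := h
  let p := pullback.fst s t
  let q := pullback.snd s t
  haveI : IsProper p := inferInstanceAs (IsProper (pullback.fst s t))
  haveI : Flat p := inferInstanceAs (Flat (pullback.fst s t))
  haveI : LocallyOfFinitePresentation t := LocallyOfFinitePresentation.iff_locallyOfFiniteType.2 inferInstance
  haveI : LocallyOfFinitePresentation p := inferInstanceAs (LocallyOfFinitePresentation (pullback.fst s t))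
  haveI : GeometricallyIntegral p := inferInstanceAs (GeometricallyIntegral (pullback.fst s t))
  haveI : GeometricallyConnected t := Cube.OverField.geometricallyConnected_of_irreducible t
  haveI : Surjective p := inferInstanceAs (Surjective (pullback.fst s t))
  let σT : T ⟶ pullback s t := pullback.lift (t ≫ σ) (𝟙 T) (by rw [Category.assoc, hσ, Category.comp_id, Category.id_comp])
  have hσTq : σT ≫ q = 𝟙 T := pullback.lift_snd _ _ _
  have hσTp : σT ≫ p = t ≫ σ := pullback.lift_fst _ _ _
  have key : ∀ (A : S.Modules) (B : T.Modules), PicF.IsInvertible A →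
      Nonempty ((Scheme.Modules.pullback σT).obj
        (CohB1.tensorMod ((Scheme.Modules.pullback p).obj A) ((Scheme.Modules.pullback q).obj B)) ≅ B) := fun A B hA => by
    obtain ⟨a⟩ := H3.PicCalc.isInvertible_subsingleton (PicLoc.isInvertible_pullback σ hA)
    exact ⟨TensorMod.Pullback.pullbackTensorIso σT _ _ ≪≫
      TensorMod.Basic.tensorIso
        ((Scheme.Modules.pullbackComp σT p).app A ≪≫ (Scheme.Modules.pullbackCongr hσTp).app A ≪≫
          ((Scheme.Modules.pullbackComp t σ).app A).symm ≪≫ (Scheme.Modules.pullback t).mapIso a ≪≫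
          PicLoc.pullbackStructureIso t)
        ((Scheme.Modules.pullbackComp σT q).app B ≪≫ (Scheme.Modules.pullbackCongr hσTq).app B ≪≫
          (Scheme.Modules.pullbackId T).app B) ≪≫ TensorMod.Basic.leftUnit B⟩
  obtain ⟨k₁⟩ := key L M hL
  obtain ⟨k₂⟩ := key L' M' hL'
  let eM : M ≅ M' := k₁.symm ≪≫ (Scheme.Modules.pullback σT).mapIso e ≪≫ k₂
  refine ⟨?_, ⟨eM⟩⟩
  let eP : (Scheme.Modules.pullback p).obj L ≅ (Scheme.Modules.pullback p).obj L' :=
    TensorMod.Invertible.cancelRight (PicLoc.isInvertible_pullback q hM')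
      (TensorMod.Basic.tensorIso (Iso.refl _) ((Scheme.Modules.pullback q).mapIso eM).symm ≪≫ e)
  have hpush := H2.Rigid.PushFlat.push_of_flat_fp p (Cube.SeesawCons.h0_of_geometricallyIntegral p).1
  have hη : ∀ A : S.Modules, PicF.IsInvertible A →
      IsIso ((Scheme.Modules.pullbackPushforwardAdjunction p).unit.app A) := fun A hA =>
    TensorMod.LocIso.isIso_unit_of_isFinLocFree p
      (fun U => (ConcreteCategory.isIso_iff_bijective _).2 (hpush U))
      (TensorMod.LocFree.of_rank (TensorMod.LocFree.of_isInvertible hA))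
  haveI := hη L hL
  haveI := hη L' hL'
  exact ⟨asIso ((Scheme.Modules.pullbackPushforwardAdjunction p).unit.app L) ≪≫
    (Scheme.Modules.pushforward p).mapIso eP ≪≫
    (asIso ((Scheme.Modules.pullbackPushforwardAdjunction p).unit.app L')).symm⟩

end

end Groth.Agent.Lib.BoxPic27.Product
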